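import Groth.Agent.L12.ZarPair.Algebra
import Groth.Agent.L12.Algz.Descend
import Groth.Agent.L12.Algz.Epi
import Groth.Agent.L18.TildeFunctor
import Groth.Agent.L21.Mod.Stalks
import Groth.Agent.L21.Mod.Locality
import Groth.Agent.L16.AffineBC.Pullback
import Groth.Agent.L20.ModStalk

/-! Coherent modules on an open of an affine scheme, up to modules supported outside the open. -/

set_option autoImplicit false
set_option linter.style.haveILetI false
set_option linter.unusedSectionVars false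
set_option backward.isDefEq.respectTransparency false
set_option backward.isDefEq.respectTransparency.types false

universe u

open CategoryTheory CategoryTheory.Limits AlgebraicGeometry Opposite TopologicalSpace TensorProduct

noncomputable section

namespace Groth.L12.ZarPair

open Groth.L12.Algz (Til tilAdj Gam fS gU)

section Til

variable (A : Type u) [CommRing A]

instance : PreservesFiniteLimits (Til A) := Groth.L18.TildeF.tilde_preservesFiniteLimits (R := CommRingCat.of A)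

instance : PreservesFiniteColimits (Til A) :=
  haveI := (tilAdj A).leftAdjoint_preservesColimits
  inferInstance

instance : (Til A).PreservesZeroMorphisms :=
  haveI := (tilAdj A).isLeftAdjoint
  inferInstance

end Til

section TildeStalk

variable {R : CommRingCat.{u}} (Q : ModuleCat.{u} R) (p : PrimeSpectrum.Top R)

theorem subsingleton_stalk_tilde (h : ∀ x : Q, ∃ r : R, r ∉ p.asIdeal ∧ r • x = 0) :
    Subsingleton ((tilde Q).presheaf.stalk p) := by
  refine subsingleton_of_forall_eq 0 fun z => ?_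
  obtain ⟨⟨x, s⟩, hx⟩ := IsLocalizedModule.surj p.asIdeal.primeCompl (tilde.toStalk Q p).hom z
  obtain ⟨r, hr, hrx⟩ := h x
  have h0 : (tilde.toStalk Q p).hom x = 0 :=
    (IsLocalizedModule.eq_zero_iff p.asIdeal.primeCompl _).2 ⟨⟨r, hr⟩, hrx⟩
  rw [h0] at hx
  exact ((Module.End.isUnit_iff _).1 (IsLocalizedModule.map_units (tilde.toStalk Q p).hom s)).1
    (hx.trans (smul_zero s).symm)

theorem exists_smul_eq_zero_of_subsingleton (h : Subsingleton ((tilde Q).presheaf.stalk p)) (x : Q) :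
    ∃ r : R, r ∉ p.asIdeal ∧ r • x = 0 := by
  obtain ⟨⟨s, hs⟩, hsx⟩ := (IsLocalizedModule.eq_zero_iff p.asIdeal.primeCompl
    (tilde.toStalk Q p).hom).1 (@Subsingleton.elim _ h ((tilde.toStalk Q p).hom x) 0)
  exact ⟨s, hs, hsx⟩

end TildeStalk

section Open

variable {A : Type u} [CommRing A] (U : (Spec (CommRingCat.of A)).Opens)

/-- The module on `U` associated to an `A`-module. -/
abbrev modOn : ModuleCat.{u} A ⥤ (U : Scheme.{u}).Modules := Til A ⋙ Scheme.Modules.restrictFunctor U.ι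

/-- Its right adjoint is the module of sections. -/
abbrev adjOn : modOn U ⊣ Scheme.Modules.pushforward U.ι ⋙ Gam A :=
  (tilAdj A).comp (Scheme.Modules.restrictAdjunction U.ι)

variable {U} {𝔞 : Ideal A} (h𝔞 : ((U : Set (Spec (CommRingCat.of A)))ᶜ : Set (PrimeSpectrum A)) = PrimeSpectrum.zeroLocus (𝔞 : Set A))

include h𝔞 in
theorem isZero_modOn {Q : ModuleCat.{u} A} (hQ : ∀ x : Q, ∃ c : ℕ, ∀ a ∈ 𝔞 ^ c, a • x = 0) :
    IsZero ((modOn U).obj Q) := by
  refine (Groth.L21.Mod.isZero_iff_stalk_subsingleton _).2 fun y => ?_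
  let p : PrimeSpectrum.Top (CommRingCat.of A) := U.ι y
  have e := ((Scheme.Modules.restrictStalkNatIso U.ι y).app (tilde (R := CommRingCat.of A) Q)).addCommGroupIsoToAddEquiv
  suffices h : Subsingleton ((tilde (R := CommRingCat.of A) Q).presheaf.stalk p) by
    exact @Equiv.subsingleton _ _ e.toEquiv h
  have hp : p ∉ PrimeSpectrum.zeroLocus (𝔞 : Set A) := fun h => (h𝔞.symm ▸ h : p ∈ (U : Set (Spec (CommRingCat.of A)))ᶜ) y.2
  obtain ⟨f, hf, hfp⟩ := Set.not_subset.1 hp
  refine subsingleton_stalk_tilde (R := CommRingCat.of A) Q p fun x => ?_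
  obtain ⟨c, hc⟩ := hQ x
  exact ⟨f ^ c, fun h => hfp (p.2.mem_of_pow_mem c h), hc _ (Ideal.pow_mem_pow hf c)⟩

include h𝔞 in
theorem exists_pow_smul_eq_zero [IsNoetherianRing A] {Q : ModuleCat.{u} A}
    (hQ : IsZero ((modOn U).obj Q)) (x : Q) : ∃ c : ℕ, ∀ a ∈ 𝔞 ^ c, a • x = 0 := by
  have h : 𝔞 ≤ Ideal.radical (LinearMap.ker (LinearMap.toSpanSingleton A Q x)) := by
    rw [Ideal.radical_eq_sInf]
    refine le_sInf fun q ⟨hq, hq'⟩ => ?_
    haveI := hq'
    let p : PrimeSpectrum.Top (CommRingCat.of A) := ⟨q, hq'⟩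
    by_cases hp : p ∈ U
    · exfalso
      obtain ⟨y, hy⟩ : ∃ y, U.ι y = p := ⟨⟨p, hp⟩, rfl⟩
      have e := ((Scheme.Modules.restrictStalkNatIso U.ι y).app
        (tilde (R := CommRingCat.of A) Q)).addCommGroupIsoToAddEquiv
      have hs : Subsingleton ((tilde (R := CommRingCat.of A) Q).presheaf.stalk (U.ι y)) :=
        @Equiv.subsingleton _ _ e.symm.toEquiv ((Groth.L21.Mod.isZero_iff_stalk_subsingleton _).1 hQ y)
      rw [hy] at hs
      obtain ⟨s, hs', hsx⟩ := exists_smul_eq_zero_of_subsingleton (R := CommRingCat.of A) Q p hs x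
      exact hs' (hq hsx)
    · have : p ∈ PrimeSpectrum.zeroLocus (𝔞 : Set A) := h𝔞 ▸ hp
      exact this
  obtain ⟨c, hc⟩ := Ideal.exists_pow_le_of_le_radical_of_fg h (IsNoetherian.noetherian 𝔞)
  exact ⟨c, fun a ha => hc ha⟩

include h𝔞 in
theorem mono_modOn {M N : ModuleCat.{u} A} (f : M ⟶ N)
    (hf : ∀ x, f x = 0 → ∃ c : ℕ, ∀ a ∈ 𝔞 ^ c, a • x = 0) : Mono ((modOn U).map f) := by
  refine Preadditive.mono_of_isZero_kernel _ (IsZero.of_iso ?_ (PreservesKernel.iso (modOn U) f).symm)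
  refine IsZero.of_iso (isZero_modOn h𝔞 (Q := ModuleCat.of A (LinearMap.ker f.hom)) fun x => ?_)
    ((modOn U).mapIso (ModuleCat.kernelIsoKer f))
  obtain ⟨c, hc⟩ := hf x.1 x.2
  exact ⟨c, fun a ha => Subtype.ext (hc a ha)⟩

include h𝔞 in
theorem epi_modOn {M N : ModuleCat.{u} A} (f : M ⟶ N)
    (hf : ∀ y : N, ∃ c : ℕ, ∀ a ∈ 𝔞 ^ c, a • y ∈ LinearMap.range f.hom) : Epi ((modOn U).map f) := by
  refine Preadditive.epi_of_isZero_cokernel _ (IsZero.of_iso ?_ (PreservesCokernel.iso (modOn U) f).symm)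
  refine IsZero.of_iso (isZero_modOn h𝔞 (Q := ModuleCat.of A (N ⧸ LinearMap.range f.hom)) fun x => ?_)
    ((modOn U).mapIso (ModuleCat.cokernelIsoRangeQuotient f))
  obtain ⟨y, rfl⟩ := Submodule.Quotient.mk_surjective _ x
  obtain ⟨c, hc⟩ := hf y
  exact ⟨c, fun a ha => (Submodule.Quotient.mk_eq_zero _).2 (hc a ha)⟩

variable [IsNoetherianRing A]

include h𝔞 in
theorem exists_pow_smul_mem_range {M N : ModuleCat.{u} A} (f : M ⟶ N) [Epi ((modOn U).map f)] (y : N) :
    ∃ c : ℕ, ∀ a ∈ 𝔞 ^ c, a • y ∈ LinearMap.range f.hom := by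
  have h : IsZero ((modOn U).obj (ModuleCat.of A (N ⧸ LinearMap.range f.hom))) :=
    ((isZero_cokernel_of_epi ((modOn U).map f)).of_iso (PreservesCokernel.iso (modOn U) f)).of_iso
      ((modOn U).mapIso (ModuleCat.cokernelIsoRangeQuotient f)).symm
  obtain ⟨c, hc⟩ := exists_pow_smul_eq_zero h𝔞 h (Submodule.Quotient.mk y)
  exact ⟨c, fun a ha => (Submodule.Quotient.mk_eq_zero _).1 (hc a ha)⟩

include h𝔞 in
theorem exists_pow_smul_eq_zero_of_map {M N : ModuleCat.{u} A} (f : M ⟶ N) [Mono ((modOn U).map f)]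
    (x : M) (hx : f x = 0) : ∃ c : ℕ, ∀ a ∈ 𝔞 ^ c, a • x = 0 := by
  have h : IsZero ((modOn U).obj (ModuleCat.of A (LinearMap.ker f.hom))) :=
    ((isZero_kernel_of_mono ((modOn U).map f)).of_iso (PreservesKernel.iso (modOn U) f)).of_iso
      ((modOn U).mapIso (ModuleCat.kernelIsoKer f)).symm
  obtain ⟨c, hc⟩ := exists_pow_smul_eq_zero h𝔞 h (⟨x, hx⟩ : LinearMap.ker f.hom)
  exact ⟨c, fun a ha => congrArg Subtype.val (hc a ha)⟩

theorem exists_uniform_pow {M : Type u} [AddCommGroup M] [Module A M] [Module.Finite A M]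
    (S : Submodule A M) (h : ∀ x : M, ∃ c : ℕ, ∀ a ∈ 𝔞 ^ c, a • x ∈ S) :
    ∃ c : ℕ, 𝔞 ^ c • (⊤ : Submodule A M) ≤ S := by
  choose c hc using h
  obtain ⟨t, ht⟩ := Module.Finite.fg_top (R := A) (M := M)
  refine ⟨t.sup c, Submodule.smul_le.2 fun a ha x _ => ?_⟩
  have : (⊤ : Submodule A M) ≤ S.comap (LinearMap.lsmul A M a) := by
    rw [← ht, Submodule.span_le]
    exact fun g hg => hc g a (Ideal.pow_le_pow_right (Finset.le_sup hg) ha)
  exact this trivial

theorem eq_zero_of_pow_smul_eq_zero {M : Type u} [AddCommGroup M] [Module A M]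
    (h : ∀ x : M, (∀ a ∈ 𝔞, a • x = 0) → x = 0) (c : ℕ) :
    ∀ x : M, (∀ a ∈ 𝔞 ^ c, a • x = 0) → x = 0 := by
  induction c with
  | zero => exact fun x hx => by simpa using hx 1 (by simp)
  | succ c ih =>
    refine fun x hx => ih x fun a ha => h _ fun b hb => ?_
    rw [smul_smul]
    exact hx _ (by rw [pow_succ']; exact Ideal.mul_mem_mul hb ha)

include h𝔞 in
/-- Morphisms on the open come from morphisms defined on a power of the ideal. -/
theorem exists_hom_on_pow {P₁ P₂ : ModuleCat.{u} A} [Module.Finite A P₁] [Module.Finite A P₂]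
    (hP : ∀ x : P₂, (∀ a ∈ 𝔞, a • x = 0) → x = 0) (ε : (modOn U).obj P₁ ≅ (modOn U).obj P₂) :
    ∃ (k c : ℕ) (ψ : ↥(𝔞 ^ k • (⊤ : Submodule A P₁)) →ₗ[A] P₂),
      𝔞 ^ c • (⊤ : Submodule A P₂) ≤ LinearMap.range ψ := by
  let F := (modOn U).obj P₂
  haveI hQ : Coh.IsQCoh F := Groth.L03.QcOpenExtend.isQCoh_restrict_tilde (A := CommRingCat.of A) U P₂
  haveI : IsIso ((adjOn U).counit.app F) := by
    have h1 := Groth.L12.Algz.isIso_fromTildeΓ_push U F hQ
    haveI h2 : IsIso ((tilAdj A).counit.app ((Scheme.Modules.pushforward U.ι).obj F)) := h1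
    rw [Adjunction.comp_counit_app]
    infer_instance
  let η := (adjOn U).unit.app P₂
  let ε' := (adjOn U).homEquiv P₁ F ε.hom
  haveI : IsIso ((modOn U).map η) :=
    IsIso.of_isIso_fac_right ((adjOn U).left_triangle_components P₂)
  haveI : IsIso ((modOn U).map ε') := by
    have he : (modOn U).map ε' ≫ (adjOn U).counit.app F = ε.hom :=
      ((adjOn U).homEquiv_counit P₁ F ε').symm.trans (((adjOn U).homEquiv P₁ F).symm_apply_apply ε.hom)
    haveI : IsIso ((modOn U).map ε' ≫ (adjOn U).counit.app F) := he ▸ inferInstanceAs (IsIso ε.hom)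
    exact IsIso.of_isIso_comp_right _ ((adjOn U).counit.app F)
  have hη : Function.Injective η.hom := by
    refine (injective_iff_map_eq_zero _).2 fun x hx => ?_
    obtain ⟨c, hc⟩ := exists_pow_smul_eq_zero_of_map h𝔞 η x hx
    exact eq_zero_of_pow_smul_eq_zero hP c x hc
  obtain ⟨k, hk⟩ := exists_uniform_pow ((LinearMap.range η.hom).comap ε'.hom) fun x => by
    obtain ⟨c, hc⟩ := exists_pow_smul_mem_range h𝔞 η (ε' x)
    exact ⟨c, fun a ha => by rw [Submodule.mem_comap, map_smul]; exact hc a ha⟩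
  let ψ : ↥(𝔞 ^ k • (⊤ : Submodule A P₁)) →ₗ[A] P₂ :=
    (LinearEquiv.ofInjective η.hom hη).symm.toLinearMap ∘ₗ
      (ε'.hom ∘ₗ Submodule.subtype _).codRestrict _ fun x => hk x.2
  have hψ : ∀ x, η.hom (ψ x) = ε'.hom x.1 := fun x =>
    congrArg Subtype.val ((LinearEquiv.ofInjective η.hom hη).apply_symm_apply _)
  obtain ⟨c, hc⟩ := exists_uniform_pow (LinearMap.range ψ) fun y => by
    obtain ⟨c, hc⟩ := exists_pow_smul_mem_range h𝔞 ε' (η y)
    refine ⟨k + c, fun a ha => ?_⟩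
    rw [pow_add] at ha
    refine Submodule.mul_induction_on ha (fun b hb b' hb' => ?_) fun b b' hb hb' => ?_
    · obtain ⟨x, hx⟩ := hc b' hb'
      refine ⟨⟨b • x, Submodule.smul_mem_smul hb trivial⟩, hη ?_⟩
      rw [hψ, map_smul, map_smul, mul_smul]
      exact congrArg (b • ·) hx
    · rw [add_smul]
      exact Submodule.add_mem _ hb hb'
  exact ⟨k, c, ψ, hc⟩

end Open

section Pair

variable {A A' : Type u} [CommRing A] [CommRing A'] [Algebra A A'] [IsNoetherianRing A] {J : Ideal A}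

theorem range_baseChange_pow (𝔟 : Ideal A) {M : Type u} [AddCommGroup M] [Module A M] :
    LinearMap.range ((𝔟 • (⊤ : Submodule A M)).subtype.baseChange A') =
      𝔟.map (algebraMap A A') • (⊤ : Submodule A' (A' ⊗[A] M)) := by
  apply le_antisymm
  · rintro _ ⟨z, rfl⟩
    induction z using TensorProduct.induction_on with
    | zero => simp
    | tmul s x =>
      have := Submodule.smul_mem _ s (one_tmul_mem (A' := A') 𝔟 x.2)
      rw [TensorProduct.smul_tmul', smul_eq_mul, mul_one] at this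
      exact this
    | add z w hz hw => rw [map_add]; exact Submodule.add_mem _ hz hw
  · rw [Submodule.smul_le]
    intro b hb z _
    induction hb using Submodule.span_induction generalizing z with
    | mem b hb =>
      obtain ⟨a, ha, rfl⟩ := hb
      induction z using TensorProduct.induction_on with
      | zero => rw [smul_zero]; exact Submodule.zero_mem _
      | tmul s m =>
        refine ⟨s ⊗ₜ ⟨a • m, Submodule.smul_mem_smul ha trivial⟩, ?_⟩
        rw [algebraMap_smul]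
        exact TensorProduct.tmul_smul a s m
      | add z w hz hw => rw [smul_add]; exact Submodule.add_mem _ (hz trivial) (hw trivial)
    | zero => rw [zero_smul]; exact Submodule.zero_mem _
    | add b b' _ _ hb hb' => rw [add_smul]; exact Submodule.add_mem _ (hb z trivial) (hb' z trivial)
    | smul s b _ hb => rw [smul_eq_mul, mul_smul]; exact Submodule.smul_mem _ _ (hb z trivial)

theorem torsionFree_baseChange [Module.Flat A A'] (𝔞 : Ideal A) (hfg : 𝔞.FG) {M : Type u} [AddCommGroup M]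
    [Module A M] (h : ∀ x : M, (∀ a ∈ 𝔞, a • x = 0) → x = 0) (z : A' ⊗[A] M)
    (hz : ∀ b ∈ 𝔞.map (algebraMap A A'), b • z = 0) : z = 0 := by
  classical
  obtain ⟨t, ht⟩ := hfg
  let L : M →ₗ[A] (t → M) := LinearMap.pi fun b => (b : A) • LinearMap.id
  have hL : Function.Injective L := by
    refine (injective_iff_map_eq_zero _).2 fun x hx => h x fun a ha => ?_
    rw [← ht] at ha
    have : Ideal.span (t : Set A) ≤ LinearMap.ker (LinearMap.toSpanSingleton A M x) :=
      Submodule.span_le.2 fun b hb => congrFun hx ⟨b, hb⟩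
    exact this ha
  have hL' : L = ∑ b : t, LinearMap.single A (fun _ : t => M) b ∘ₗ ((b : A) • LinearMap.id) := by
    ext x b
    simp [L, Pi.single_apply, Finset.sum_apply]
  have : L.baseChange A' z = 0 := by
    rw [hL', show ∀ g : M →ₗ[A] (t → M), g.baseChange A' = LinearMap.baseChangeHom A A' M (t → M) g from fun g => rfl,
      map_sum, LinearMap.sum_apply]
    refine Finset.sum_eq_zero fun b _ => ?_
    show (LinearMap.single A (fun _ : t => M) b ∘ₗ ((b : A) • LinearMap.id)).baseChange A' z = 0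
    rw [LinearMap.baseChange_comp, LinearMap.comp_apply, LinearMap.baseChange_smul, LinearMap.baseChange_id,
      LinearMap.smul_apply, LinearMap.id_apply]
    have hb : algebraMap A A' (b : A) • z = 0 :=
      hz _ (Ideal.mem_map_of_mem _ (ht ▸ Ideal.subset_span b.2))
    rw [algebraMap_smul] at hb
    rw [hb, map_zero]
  exact Module.Flat.lTensor_preserves_injective_linearMap (M := A') L hL
    (this.trans (map_zero _).symm)

variable [IsNoetherianRing A'] (hJ : J ≤ (⊥ : Ideal A).jacobson)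
  (hJ' : J.map (algebraMap A A') ≤ (⊥ : Ideal A').jacobson)
  (U : (Spec (CommRingCat.of A)).Opens) (hU : ∀ p : PrimeSpectrum A, ¬ J ≤ p.asIdeal → p ∈ U)

include hJ hJ' hU in
/-- Coherent modules isomorphic over the extension map onto each other. -/
theorem SameQuot.exists_epi (h : SameQuot (A' := A') J) (E₁ E₂ : (U : Scheme.{u}).Modules)
    (h₁ : Coh.IsCoh E₁) (h₂ : Coh.IsCoh E₂)
    (ε : (Scheme.Modules.pullback (gU (algebraMap A A') U)).obj E₁ ≅
      (Scheme.Modules.pullback (gU (algebraMap A A') U)).obj E₂) :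
    ∃ q : E₁ ⟶ E₂, Epi q := by
  haveI : IsNoetherianRing (CommRingCat.of A) := ‹IsNoetherianRing A›
  haveI : TopologicalSpace.NoetherianSpace (Spec (CommRingCat.of A)) :=
    inferInstanceAs (TopologicalSpace.NoetherianSpace (PrimeSpectrum A))
  haveI := h.flat hJ'
  let 𝔞 : Ideal A := PrimeSpectrum.vanishingIdeal ((U : Set (Spec (CommRingCat.of A)))ᶜ : Set (PrimeSpectrum A))
  have h𝔞 : ((U : Set (Spec (CommRingCat.of A)))ᶜ : Set (PrimeSpectrum A)) = PrimeSpectrum.zeroLocus (𝔞 : Set A) := by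
    rw [PrimeSpectrum.zeroLocus_vanishingIdeal_eq_closure]
    exact U.2.isClosed_compl.closure_eq.symm
  have hJ𝔞 : J ≤ 𝔞 := fun a ha => (PrimeSpectrum.mem_vanishingIdeal _ _).2 fun p hp => by
    by_contra hap
    exact hp (hU p fun hle => hap (hle ha))
  let U' : (Spec (CommRingCat.of A')).Opens := fS (algebraMap A A') ⁻¹ᵁ U
  have h𝔞' : ((U' : Set (Spec (CommRingCat.of A')))ᶜ : Set (PrimeSpectrum A')) =
      PrimeSpectrum.zeroLocus ((𝔞.map (algebraMap A A')) : Set A') := by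
    rw [Ideal.map, PrimeSpectrum.zeroLocus_span, ← PrimeSpectrum.preimage_comap_zeroLocus, ← h𝔞]
    rfl
  obtain ⟨M₁, hM₁, ⟨e₁⟩⟩ := Groth.L03.QcOpenExtend.exists_finite_tilde_restrict (A := CommRingCat.of A) U
    (TopologicalSpace.NoetherianSpace.isCompact _) E₁ h₁
  obtain ⟨M₂, hM₂, ⟨e₂⟩⟩ := Groth.L03.QcOpenExtend.exists_finite_tilde_restrict (A := CommRingCat.of A) U
    (TopologicalSpace.NoetherianSpace.isCompact _) E₂ h₂
  haveI : Module.Finite A M₁ := hM₁
  haveI : Module.Finite A M₂ := hM₂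
  -- divide by the torsion
  let S : Submodule A M₂ :=
    { carrier := {x | ∃ c : ℕ, ∀ a ∈ 𝔞 ^ c, a • x = 0}
      zero_mem' := ⟨0, fun a _ => smul_zero a⟩
      add_mem' := fun {x y} ⟨c, hc⟩ ⟨d, hd⟩ => ⟨c + d, fun a ha => by
        rw [smul_add, hc a (Ideal.pow_le_pow_right (Nat.le_add_right c d) ha),
          hd a (Ideal.pow_le_pow_right (Nat.le_add_left d c) ha), add_zero]⟩
      smul_mem' := fun r x ⟨c, hc⟩ => ⟨c, fun a ha => by rw [smul_comm, hc a ha, smul_zero]⟩ }
  let π : M₂ ⟶ ModuleCat.of A (M₂ ⧸ S) := ModuleCat.ofHom S.mkQ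
  haveI : Mono ((modOn U).map π) := mono_modOn h𝔞 π fun x hx => (Submodule.Quotient.mk_eq_zero S).1 hx
  haveI : Epi ((modOn U).map π) := epi_modOn h𝔞 π fun y => ⟨0, fun a _ => by
    obtain ⟨y, rfl⟩ := Submodule.Quotient.mk_surjective _ y
    exact ⟨a • y, rfl⟩⟩
  haveI : IsIso ((modOn U).map π) := isIso_of_mono_of_epi _
  have hfree : ∀ x : M₂ ⧸ S, (∀ a ∈ 𝔞, a • x = 0) → x = 0 := fun x hx => by
    obtain ⟨x, rfl⟩ := Submodule.Quotient.mk_surjective _ x
    obtain ⟨c, hc⟩ := exists_uniform_pow (𝔞 := 𝔞) (⊥ : Submodule A S) fun y => by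
      obtain ⟨c, hc⟩ := y.2
      exact ⟨c, fun a ha => Subtype.ext (hc a ha)⟩
    refine (Submodule.Quotient.mk_eq_zero S).2 ⟨c + 1, fun a ha => ?_⟩
    rw [pow_succ] at ha
    refine Submodule.mul_induction_on ha (fun b hb b' hb' => ?_) fun b b' hb hb' => by rw [add_smul, hb, hb', add_zero]
    have h1 : b' • x ∈ S := (Submodule.Quotient.mk_eq_zero S).1 (hx b' hb')
    have h2 : b • (⟨b' • x, h1⟩ : S) = 0 := hc (Submodule.smul_mem_smul hb trivial)
    rw [mul_smul]
    exact congrArg Subtype.val h2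
  let N₂ := M₂ ⧸ S
  let f₁ : E₁ ≅ (modOn U).obj M₁ := e₁
  let f₂ : E₂ ≅ (modOn U).obj (ModuleCat.of A N₂) := e₂ ≪≫ asIso ((modOn U).map π)
  -- compare over `A'`
  have hext : ∀ M : ModuleCat.{u} A, Nonempty ((Scheme.Modules.pullback (gU (algebraMap A A') U)).obj ((modOn U).obj M) ≅
      (modOn U').obj (ModuleCat.of A' (A' ⊗[A] M))) := fun M => by
    obtain ⟨e⟩ := Groth.L18.TildeF.extendScalars_equiv (R := A) (S := A') M
    exact ⟨((Groth.L12.Algz.restrictPullIso (algebraMap A A') U).app (tilde (R := CommRingCat.of A) M)).symm ≪≫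
      (Scheme.Modules.restrictFunctor U'.ι).mapIso
        ((Groth.L18.TildeF.pullbackTildeIso (CommRingCat.ofHom (algebraMap A A'))).app M ≪≫
          (tilde.functor (CommRingCat.of A')).mapIso e.toModuleIso)⟩
  obtain ⟨g₁⟩ := hext M₁
  obtain ⟨g₂⟩ := hext (ModuleCat.of A N₂)
  obtain ⟨k, c, ψ, hψ⟩ := exists_hom_on_pow (U := U') h𝔞'
    (P₁ := ModuleCat.of A' (A' ⊗[A] M₁)) (P₂ := ModuleCat.of A' (A' ⊗[A] N₂))
    (torsionFree_baseChange 𝔞 (IsNoetherian.noetherian 𝔞) hfree)
    (g₁.symm ≪≫ (Scheme.Modules.pullback _).mapIso f₁.symm ≪≫ ε ≪≫ (Scheme.Modules.pullback _).mapIso f₂ ≪≫ g₂)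
  have hrange : LinearMap.range ((𝔞 ^ k • (⊤ : Submodule A M₁)).subtype.baseChange A') =
      (𝔞.map (algebraMap A A')) ^ k • (⊤ : Submodule A' (A' ⊗[A] M₁)) := by
    rw [range_baseChange_pow, Ideal.map_pow]
  let r := ((𝔞 ^ k • (⊤ : Submodule A M₁)).subtype.baseChange A').codRestrict
    ((𝔞.map (algebraMap A A')) ^ k • (⊤ : Submodule A' (A' ⊗[A] M₁))) fun x => hrange.le (LinearMap.mem_range_self _ x)
  have hr : Function.Surjective r := fun y => by
    obtain ⟨x, hx⟩ := (hrange.ge y.2 : y.1 ∈ LinearMap.range _)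
    exact ⟨x, Subtype.ext hx⟩
  haveI : Module.Finite A ↥(𝔞 ^ k • (⊤ : Submodule A M₁)) :=
    Module.Finite.iff_fg.2 (IsNoetherian.noetherian _)
  obtain ⟨φ, hφ⟩ := h.exists_hom_of_range hJ hJ' 𝔞 (t := 1) (by rwa [pow_one]) (ψ ∘ₗ r) (c := c)
    (by rw [LinearMap.range_comp_of_range_eq_top _ (LinearMap.range_eq_top.2 hr)]; exact hψ)
  -- back on `U`
  let i : ModuleCat.of A ↥(𝔞 ^ k • (⊤ : Submodule A M₁)) ⟶ M₁ := ModuleCat.ofHom (Submodule.subtype _)
  haveI : Mono ((modOn U).map i) := mono_modOn h𝔞 i fun x hx => ⟨0, fun a _ => by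
    rw [show x = 0 from Subtype.ext hx]; exact smul_zero a⟩
  haveI : Epi ((modOn U).map i) := epi_modOn h𝔞 i fun y => ⟨k, fun a ha =>
    ⟨⟨a • y, Submodule.smul_mem_smul ha trivial⟩, rfl⟩⟩
  haveI : IsIso ((modOn U).map i) := isIso_of_mono_of_epi _
  haveI : Epi ((modOn U).map (ModuleCat.ofHom φ)) :=
    epi_modOn h𝔞 _ fun y => ⟨c, fun a ha => hφ (Submodule.smul_mem_smul ha trivial)⟩
  exact ⟨f₁.hom ≫ inv ((modOn U).map i) ≫ (modOn U).map (ModuleCat.ofHom φ) ≫ f₂.inv, inferInstance⟩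

end Pair

/-- An epimorphic endomorphism of a coherent module is an isomorphism. -/
theorem isIso_of_epi_endo {X : Scheme.{u}} {E : X.Modules} (hE : Coh.IsCoh E) (q : E ⟶ E) [Epi q] :
    IsIso q := by
  haveI : Coh.IsQCoh E := hE.1
  haveI : Mono q := by
    refine (Groth.L21.Mod.mono_iff_stalk_injective q).2 fun x => ?_
    refine (injective_iff_map_eq_zero _).2 fun z hz => ?_
    obtain ⟨W, hxW, s, rfl⟩ := TopCat.Presheaf.exists_germ_eq (F := E.presheaf) (x := x) z
    obtain ⟨V, hV, hxV, hle⟩ := exists_isAffineOpen_mem_and_subset (x := x) (U := W) hxW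
    haveI := Groth.L20.ModStalk.finite_sections E hE hV
    let L : Γ(E, V) →ₗ[Γ(X, V)] Γ(E, V) :=
      { toFun := fun s => q.app V s
        map_add' := fun s t => map_add _ s t
        map_smul' := fun r s => Scheme.Modules.Hom.app_smul q r s }
    have hb : Function.Bijective L := OrzechProperty.bijective_of_surjective_endomorphism L
      (Groth.L16.AffineBC.surjective_app_of_epi q hV)
    rw [← TopCat.Presheaf.germ_res_apply E.presheaf (homOfLE hle) x hxV s] at hz ⊢
    generalize E.presheaf.map (homOfLE hle).op s = s' at hz ⊢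
    rw [Groth.L21.Mod.stalkF_map_germ] at hz
    letI := Groth.L20.ModStalk.stalkModule E hxV
    have := Groth.L20.ModStalk.isLocalizedModule_germ E hV hxV
    obtain ⟨u, hu⟩ := (IsLocalizedModule.eq_zero_iff (hV.primeIdealOf ⟨x, hxV⟩).asIdeal.primeCompl
      (Groth.L20.ModStalk.germₗ E hxV)).1 hz
    refine (IsLocalizedModule.eq_zero_iff (hV.primeIdealOf ⟨x, hxV⟩).asIdeal.primeCompl
      (Groth.L20.ModStalk.germₗ E hxV)).2 ⟨u, hb.1 ?_⟩
    rw [map_zero, Submonoid.smul_def, map_smul]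
    exact hu
  exact isIso_of_mono_of_epi q

end Groth.L12.ZarPair
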