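import Mathlib.RingTheory.Filtration
import Mathlib.LinearAlgebra.TensorProduct.Quotient
import Mathlib.RingTheory.AdicCompletion.Noetherian
import Mathlib.RingTheory.Flat.Basic
import Mathlib.RingTheory.Flat.Tensor
import Mathlib.RingTheory.Nakayama
import Mathlib.Algebra.Module.FinitePresentation
import Mathlib.RingTheory.TensorProduct.Finite

/-! Zariski pairs with the same quotients by powers of the ideal: flatness and approximation of homomorphisms. -/

set_option autoImplicit false
set_option linter.unusedSectionVars false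

universe u

open TensorProduct

namespace Groth.L12.ZarPair

variable {A A' : Type u} [CommRing A] [CommRing A'] [Algebra A A'] [IsNoetherianRing A]
  (J : Ideal A)

/-- The quotients by the powers of `J` agree. -/
structure SameQuot : Prop where
  inj : ∀ (n : ℕ) (a : A), algebraMap A A' a ∈ (J.map (algebraMap A A')) ^ n → a ∈ J ^ n
  surj : ∀ (n : ℕ) (s : A'), ∃ a : A, s - algebraMap A A' a ∈ (J.map (algebraMap A A')) ^ n

variable {J}

theorem smul_one_tmul {M : Type*} [AddCommGroup M] [Module A M] (a : A) (m : M) :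
    algebraMap A A' a • ((1 : A') ⊗ₜ[A] m) = (1 : A') ⊗ₜ[A] (a • m) := by
  rw [TensorProduct.smul_tmul', smul_eq_mul, mul_one, TensorProduct.tmul_smul, TensorProduct.smul_tmul',
    Algebra.smul_def, mul_one]

theorem one_tmul_mem {M : Type*} [AddCommGroup M] [Module A M] (I : Ideal A) {m : M}
    (hm : m ∈ I • (⊤ : Submodule A M)) :
    (1 : A') ⊗ₜ[A] m ∈ I.map (algebraMap A A') • (⊤ : Submodule A' (A' ⊗[A] M)) := by
  refine Submodule.smul_induction_on hm (fun a ha x _ => ?_) fun x y hx hy => ?_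
  · rw [← smul_one_tmul]
    exact Submodule.smul_mem_smul (Ideal.mem_map_of_mem _ ha) trivial
  · rw [TensorProduct.tmul_add]
    exact Submodule.add_mem _ hx hy

/-- Every element is congruent to one coming from `M`. -/
theorem SameQuot.exists_approx (h : SameQuot (A' := A') J) {M : Type*} [AddCommGroup M] [Module A M] (n : ℕ)
    (x : A' ⊗[A] M) :
    ∃ m : M, x - (1 : A') ⊗ₜ[A] m ∈ (J.map (algebraMap A A')) ^ n • (⊤ : Submodule A' (A' ⊗[A] M)) := by
  induction x using TensorProduct.induction_on with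
  | zero => exact ⟨0, by simp⟩
  | tmul s m =>
    obtain ⟨a, ha⟩ := h.surj n s
    refine ⟨a • m, ?_⟩
    have : s ⊗ₜ[A] m - (1 : A') ⊗ₜ[A] (a • m) = (s - algebraMap A A' a) • ((1 : A') ⊗ₜ[A] m) := by
      rw [← smul_one_tmul, TensorProduct.smul_tmul', TensorProduct.smul_tmul', smul_eq_mul, smul_eq_mul,
        mul_one, mul_one, TensorProduct.sub_tmul]
    rw [this]
    exact Submodule.smul_mem_smul ha trivial
  | add x y hx hy =>
    obtain ⟨m, hm⟩ := hx
    obtain ⟨m', hm'⟩ := hy
    refine ⟨m + m', ?_⟩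
    rw [TensorProduct.tmul_add, add_sub_add_comm]
    exact Submodule.add_mem _ hm hm'

theorem SameQuot.mem_of_one_tmul_mem (h : SameQuot (A' := A') J) {M : Type*} [AddCommGroup M] [Module A M] (n : ℕ) {m : M}
    (hm : (1 : A') ⊗ₜ[A] m ∈ (J.map (algebraMap A A')) ^ n • (⊤ : Submodule A' (A' ⊗[A] M))) :
    m ∈ J ^ n • (⊤ : Submodule A M) := by
  choose a ha using h.surj n
  have huniq : ∀ (b c : A) (s : A'), s - algebraMap A A' b ∈ (J.map (algebraMap A A')) ^ n →
      s - algebraMap A A' c ∈ (J.map (algebraMap A A')) ^ n →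
      (Ideal.Quotient.mk (J ^ n) b) = Ideal.Quotient.mk (J ^ n) c := fun b c s hb hc => by
    refine (Ideal.Quotient.eq).2 (h.inj n _ ?_)
    have := Ideal.sub_mem _ hc hb
    rwa [sub_sub_sub_cancel_left, ← map_sub] at this
  let ρ : A' →ₗ[A] A ⧸ J ^ n :=
    { toFun := fun s => Ideal.Quotient.mk (J ^ n) (a s)
      map_add' := fun s t => by
        rw [← map_add]
        refine huniq _ _ (s + t) (ha _) ?_
        rw [map_add, add_sub_add_comm]
        exact Ideal.add_mem _ (ha s) (ha t)
      map_smul' := fun c s => by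
        rw [RingHom.id_apply]
        refine (huniq _ (c * a s) (c • s) (ha _) ?_).trans ?_
        · rw [map_mul, Algebra.smul_def, ← mul_sub]
          exact Ideal.mul_mem_left _ _ (ha s)
        · rw [map_mul]
          rfl }
  have hρ1 : ρ 1 = 1 := huniq _ 1 1 (ha 1) (by rw [map_one, sub_self]; exact zero_mem _)
  have hmul : ∀ (s : A'), s ∈ (J.map (algebraMap A A')) ^ n → ∀ t, ρ (s * t) = 0 := fun s hs t => by
    refine (huniq _ 0 (s * t) (ha _) ?_).trans (map_zero _)
    rw [map_zero, sub_zero]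
    exact Ideal.mul_mem_right _ _ hs
  let μ := (TensorProduct.quotTensorEquivQuotSMul M (J ^ n)).toLinearMap ∘ₗ ρ.rTensor M
  have hμ : ∀ x ∈ (J.map (algebraMap A A')) ^ n • (⊤ : Submodule A' (A' ⊗[A] M)), μ x = 0 := fun x hx => by
    refine Submodule.smul_induction_on hx (fun s hs y _ => ?_) fun x y hx hy => by rw [map_add, hx, hy, add_zero]
    induction y using TensorProduct.induction_on with
    | zero => rw [smul_zero, map_zero]
    | tmul t z =>
      rw [TensorProduct.smul_tmul', smul_eq_mul]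
      simp [μ, hmul s hs t]
    | add y z hy hz => simp only [smul_add, map_add, hy trivial, hz trivial, add_zero]
  have := hμ _ hm
  simp only [μ, LinearMap.comp_apply, LinearMap.rTensor_tmul, hρ1, LinearEquiv.coe_coe] at this
  rw [← map_one (Ideal.Quotient.mk (J ^ n)), TensorProduct.quotTensorEquivQuotSMul_mk_tmul, one_smul] at this
  exact (Submodule.Quotient.mk_eq_zero _).1 this

variable (hJ : J ≤ (⊥ : Ideal A).jacobson) (hJ' : J.map (algebraMap A A') ≤ (⊥ : Ideal A').jacobson)
  [IsNoetherianRing A']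

include hJ' in
/-- The extension is flat. -/
theorem SameQuot.flat (h : SameQuot (A' := A') J) : Module.Flat A A' := by
  rw [Module.Flat.iff_lift_lsmul_comp_subtype_injective]
  intro I hI
  haveI : Module.Finite A I := Module.Finite.iff_fg.2 hI
  obtain ⟨c, hc⟩ := J.exists_pow_inf_eq_pow_smul (I : Submodule A A)
  rw [← LinearMap.ker_eq_bot, LinearMap.ker_eq_bot']
  intro x hx
  -- move to `A' ⊗ I`
  let y := TensorProduct.comm A I A' x
  suffices y = 0 by simpa [y] using this
  let lft : A' ⊗[A] I →ₗ[A] A' :=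
    TensorProduct.lift ((LinearMap.lsmul A A').comp I.subtype).flip
  have hlft : lft y = 0 := by
    refine Eq.trans ?_ hx
    show lft (TensorProduct.comm A I A' x) = _
    refine LinearMap.congr_fun (f := lft ∘ₗ (TensorProduct.comm A I A').toLinearMap) ?_ x
    ext i s
    simp [lft]
  have hl : ∀ (s : A') (z : A' ⊗[A] I), lft (s • z) = s * lft z := fun s z => by
    induction z using TensorProduct.induction_on with
    | zero => simp
    | tmul t i => simp [lft, TensorProduct.smul_tmul', mul_smul_comm]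
    | add z w hz hw => rw [smul_add, map_add, map_add, hz, hw, mul_add]
  refine (IsHausdorff.of_le_jacobson (J.map (algebraMap A A')) (A' ⊗[A] I) hJ').haus y fun k => SModEq.zero.2 ?_
  obtain ⟨i, hi⟩ := h.exists_approx (k + c) y
  have h1 : algebraMap A A' (i : A) ∈ (J.map (algebraMap A A')) ^ (k + c) := by
    have h2 : lft (y - (1 : A') ⊗ₜ[A] i) ∈ (J.map (algebraMap A A')) ^ (k + c) := by
      refine Submodule.smul_induction_on hi (fun s hs z _ => ?_) fun z w hz hw => ?_
      · rw [hl]
        exact Ideal.mul_mem_right _ _ hs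
      · rw [map_add]
        exact Ideal.add_mem _ hz hw
    rw [map_sub, hlft, zero_sub, neg_mem_iff] at h2
    simpa [lft, Algebra.smul_def] using h2
  have h3 : (i : A) ∈ J ^ k • (I : Submodule A A) := by
    have h4 : (i : A) ∈ J ^ (k + c) • (⊤ : Submodule A A) ⊓ (I : Submodule A A) :=
      ⟨by simpa [smul_eq_mul, Ideal.mul_top] using h.inj _ _ h1, i.2⟩
    rw [hc (k + c) (Nat.le_add_left c k), Nat.add_sub_cancel] at h4
    exact Submodule.smul_mono le_rfl inf_le_right h4
  have h5 : i ∈ J ^ k • (⊤ : Submodule A I) := by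
    rw [Submodule.mem_smul_top_iff]
    exact h3
  have h6 := one_tmul_mem (A' := A') (J ^ k) h5
  rw [Ideal.map_pow] at h6
  have := Submodule.add_mem _ (Submodule.smul_mono_left (Ideal.pow_le_pow_right (Nat.le_add_right k c)) hi) h6
  rwa [sub_add_cancel] at this

include hJ in
/-- The unit of the extension is injective. -/
theorem SameQuot.one_tmul_eq_zero (h : SameQuot (A' := A') J) {M : Type u} [AddCommGroup M] [Module A M]
    [Module.Finite A M] {m : M} (hm : (1 : A') ⊗ₜ[A] m = 0) : m = 0 := by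
  exact (IsHausdorff.of_le_jacobson J M hJ).haus m fun n => SModEq.zero.2
    (h.mem_of_one_tmul_mem n (by rw [hm]; exact zero_mem _))

include hJ' in
/-- Homomorphisms are approximated by homomorphisms over `A`. -/
theorem SameQuot.exists_hom_approx (h : SameQuot (A' := A') J) {M N : Type u} [AddCommGroup M] [Module A M]
    [AddCommGroup N] [Module A N] [Module.Finite A M] (n : ℕ) (ψ : A' ⊗[A] M →ₗ[A'] A' ⊗[A] N) :
    ∃ φ : M →ₗ[A] N, ∀ x, ψ x - φ.baseChange A' x ∈
      (J.map (algebraMap A A')) ^ n • (⊤ : Submodule A' (A' ⊗[A] N)) := by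
  haveI := h.flat hJ'
  haveI : Module.FinitePresentation A M := Module.finitePresentation_of_finite A M
  refine (Module.FinitePresentation.isBaseChange_map A M N A').inductionOn
    (motive := fun ψ => ∃ φ : M →ₗ[A] N, ∀ x, ψ x - φ.baseChange A' x ∈
      (J.map (algebraMap A A')) ^ n • (⊤ : Submodule A' (A' ⊗[A] N))) ψ ⟨0, by simp⟩ (fun φ => ⟨φ, fun x => ?_⟩)
    (fun s ψ => ?_) fun ψ₁ ψ₂ => ?_
  · simp [LinearMap.baseChangeHom]
  · rintro ⟨φ, hφ⟩
    obtain ⟨a, ha⟩ := h.surj n s
    refine ⟨a • φ, fun x => ?_⟩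
    have : (s • ψ) x - (a • φ).baseChange A' x =
        s • (ψ x - φ.baseChange A' x) + (s - algebraMap A A' a) • φ.baseChange A' x := by
      have e : (s - algebraMap A A' a) • φ.baseChange A' x =
          s • φ.baseChange A' x - a • φ.baseChange A' x := by
        refine (sub_smul s (algebraMap A A' a) (φ.baseChange A' x)).trans ?_
        rw [algebraMap_smul]
      rw [LinearMap.baseChange_smul, LinearMap.smul_apply, LinearMap.smul_apply, smul_sub, e]
      abel
    rw [this]
    exact Submodule.add_mem _ (Submodule.smul_mem _ _ (hφ x)) (Submodule.smul_mem_smul ha trivial)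
  · rintro ⟨φ₁, h₁⟩ ⟨φ₂, h₂⟩
    refine ⟨φ₁ + φ₂, fun x => ?_⟩
    rw [LinearMap.add_apply, LinearMap.baseChange_add, LinearMap.add_apply, add_sub_add_comm]
    exact Submodule.add_mem _ (h₁ x) (h₂ x)

include hJ hJ' in
/-- A homomorphism whose cokernel is killed by a power of `𝔞` descends to one with the same property. -/
theorem SameQuot.exists_hom_of_range (h : SameQuot (A' := A') J) (𝔞 : Ideal A) {t : ℕ} (ht : J ^ t ≤ 𝔞)
    {M N : Type u} [AddCommGroup M] [Module A M] [AddCommGroup N] [Module A N] [Module.Finite A M]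
    [Module.Finite A N] (ψ : A' ⊗[A] M →ₗ[A'] A' ⊗[A] N) {c : ℕ}
    (hψ : (𝔞.map (algebraMap A A')) ^ c • (⊤ : Submodule A' (A' ⊗[A] N)) ≤ LinearMap.range ψ) :
    ∃ φ : M →ₗ[A] N, 𝔞 ^ c • (⊤ : Submodule A N) ≤ LinearMap.range φ := by
  obtain ⟨φ, hφ⟩ := h.exists_hom_approx hJ' (t * c + 1) ψ
  refine ⟨φ, ?_⟩
  set 𝔞' := 𝔞.map (algebraMap A A')
  set J' := J.map (algebraMap A A')
  let W : Submodule A' (A' ⊗[A] N) := 𝔞' ^ c • ⊤
  have hle : J' ^ (t * c + 1) ≤ J' * 𝔞' ^ c := by
    rw [pow_succ', pow_mul]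
    refine Ideal.mul_mono le_rfl (Ideal.pow_right_mono ?_ c)
    rw [← Ideal.map_pow]
    exact Ideal.map_mono ht
  have key : W ≤ LinearMap.range (φ.baseChange A') := by
    refine Submodule.le_of_le_smul_of_le_jacobson_bot (I := J') (IsNoetherian.noetherian W) hJ' fun w hw => ?_
    obtain ⟨x, rfl⟩ := hψ hw
    refine Submodule.mem_sup.2 ⟨_, ⟨x, rfl⟩, ψ x - φ.baseChange A' x, ?_, by abel⟩
    have := Submodule.smul_mono_left (N := (⊤ : Submodule A' (A' ⊗[A] N))) hle (hφ x)
    rwa [Submodule.mul_smul] at this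
  intro y hy
  haveI := h.flat hJ'
  have h1 : (1 : A') ⊗ₜ[A] y ∈ W := by
    have := one_tmul_mem (A' := A') (𝔞 ^ c) hy
    rwa [Ideal.map_pow] at this
  obtain ⟨x, hx⟩ := key h1
  have h2 : (1 : A') ⊗ₜ[A] (LinearMap.range φ).mkQ y = 0 := by
    refine Eq.trans (b := (LinearMap.range φ).mkQ.baseChange A' ((1 : A') ⊗ₜ[A] y)) rfl ?_
    rw [← hx, ← LinearMap.comp_apply, ← LinearMap.baseChange_comp,
      show (LinearMap.range φ).mkQ ∘ₗ φ = 0 from LinearMap.range_mkQ_comp φ, LinearMap.baseChange_zero,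
      LinearMap.zero_apply]
  exact (Submodule.Quotient.mk_eq_zero _).1 (h.one_tmul_eq_zero hJ h2)

end Groth.L12.ZarPair
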